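import Cfsg.Agent.M24Geo.Orbit

/-! Transitivity certificates (data found by a search outside of Lean; every property is checked in the files using it). -/

set_option autoImplicit false

namespace Cfsg.Agent.M24Geo

/-- Generators for `base0`. -/
def base0Gens : List (List ℕ) :=
  [[0, 2, 3, 4, 5, 6, 7, 8, 9, 10, 11, 12, 13, 14, 15, 16, 17, 18, 19, 20, 21, 22, 23, 1],
    [1, 0, 23, 12, 16, 18, 10, 20, 14, 21, 6, 17, 3, 22, 8, 19, 4, 11, 5, 15, 7, 9, 13, 2],
    [0, 1, 19, 7, 4, 3, 22, 2, 6, 17, 13, 8, 20, 9, 10, 18, 16, 14, 12, 5, 23, 11, 21, 15]]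

/-- Orbit representatives for `base0`. -/
def base0Roots : List ℕ := [1]

set_option maxRecDepth 20000 in
/-- Orbit certificate `base0`. -/
def base0Tree : OT :=
  (.node (.node (.node (.node (.node .leaf 1 0 0 0 .leaf) 2 1 1 1 (.node .leaf 4 0 2 2 .leaf)) 8 0 4 3 (.node (.node .leaf 16 0 8 4 .leaf) 32 2 524288 4 .leaf)) 64 0 32 5 (.node (.node (.node .leaf 128 2 8 4 .leaf) 256 0 128 5 .leaf) 512 2 8192 6 (.node (.node .leaf 1024 1 64 6 .leaf) 2048 2 2097152 6 .leaf))) 4096 1 8 4 (.node (.node (.node (.node .leaf 8192 0 4096 5 .leaf) 16384 0 8192 6 .leaf) 32768 2 8388608 4 (.node (.node .leaf 65536 1 16 5 .leaf) 131072 0 65536 6 .leaf)) 262144 2 32768 5 (.node (.node (.node .leaf 524288 2 4 3 .leaf) 1048576 0 524288 4 .leaf) 2097152 0 1048576 5 (.node (.node .leaf 4194304 1 8192 6 .leaf) 8388608 1 4 3 .leaf))))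

/-- Generators for `base1`. -/
def base1Gens : List (List ℕ) :=
  [[0, 1, 20, 16, 7, 17, 4, 11, 22, 15, 2, 18, 5, 13, 21, 10, 14, 8, 6, 3, 9, 19, 12, 23],
    [0, 17, 4, 11, 18, 13, 5, 19, 15, 9, 12, 3, 10, 20, 14, 1, 2, 8, 16, 21, 6, 22, 7, 23],
    [0, 1, 12, 19, 11, 20, 14, 2, 13, 23, 4, 18, 16, 5, 8, 17, 7, 15, 21, 10, 9, 22, 3, 6]]

/-- Orbit representatives for `base1`. -/
def base1Roots : List ℕ := [2]

set_option maxRecDepth 20000 in
/-- Orbit certificate `base1`. -/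
def base1Tree : OT :=
  (.node (.node (.node (.node (.node .leaf 2 0 0 0 .leaf) 4 0 1024 4 .leaf) 8 2 4194304 4 (.node (.node .leaf 16 2 1024 4 .leaf) 32 2 8192 4 .leaf)) 64 1 1048576 5 (.node (.node (.node .leaf 128 1 4194304 4 .leaf) 256 0 131072 2 .leaf) 512 0 1048576 5 (.node (.node .leaf 1024 0 32768 3 .leaf) 2048 0 128 5 .leaf))) 4096 0 4194304 4 (.node (.node (.node (.node .leaf 8192 2 256 3 .leaf) 16384 0 65536 6 .leaf) 32768 2 131072 2 (.node (.node .leaf 65536 2 4096 5 .leaf) 131072 1 2 1 .leaf)) 262144 1 16 5 (.node (.node (.node .leaf 524288 1 128 5 .leaf) 1048576 1 8192 4 .leaf) 2097152 1 524288 6 (.node (.node .leaf 4194304 0 256 3 .leaf) 8388608 2 512 6 .leaf))))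

/-- Generators for `base2`. -/
def base2Gens : List (List ℕ) :=
  [[0, 1, 2, 4, 6, 19, 3, 20, 12, 13, 14, 11, 23, 16, 17, 15, 9, 10, 18, 22, 21, 7, 5, 8],
    [0, 1, 5, 4, 8, 20, 7, 6, 19, 9, 18, 16, 10, 22, 2, 15, 17, 21, 23, 3, 14, 11, 13, 12],
    [0, 1, 3, 19, 9, 16, 2, 20, 11, 21, 15, 14, 18, 5, 6, 12, 10, 17, 13, 8, 23, 7, 4, 22]]

/-- Orbit representatives for `base2`. -/
def base2Roots : List ℕ := [4]

set_option maxRecDepth 20000 in
/-- Orbit certificate `base2`. -/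
def base2Tree : OT :=
  (.node (.node (.node (.node (.node .leaf 4 0 0 0 .leaf) 8 2 4 1 .leaf) 16 0 8 2 (.node (.node .leaf 32 1 4 1 .leaf) 64 0 16 3 .leaf)) 128 0 2097152 4 (.node (.node (.node .leaf 256 2 524288 3 .leaf) 512 0 65536 3 .leaf) 1024 2 65536 3 (.node (.node .leaf 2048 2 256 4 .leaf) 4096 0 256 4 .leaf))) 8192 1 4194304 4 (.node (.node (.node (.node .leaf 16384 1 1048576 3 .leaf) 32768 2 1024 4 .leaf) 65536 2 32 2 (.node (.node .leaf 131072 1 65536 3 .leaf) 262144 1 1024 4 .leaf)) 524288 0 32 2 (.node (.node (.node .leaf 1048576 1 32 2 .leaf) 2097152 0 1048576 3 .leaf) 4194304 0 524288 3 (.node .leaf 8388608 2 1048576 3 .leaf))))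

/-- Generators for `base3`. -/
def base3Gens : List (List ℕ) :=
  [[0, 1, 2, 16, 3, 18, 21, 13, 22, 9, 7, 12, 6, 5, 19, 11, 17, 20, 10, 8, 4, 15, 23, 14],
    [0, 1, 2, 7, 21, 5, 6, 11, 9, 16, 22, 3, 12, 15, 10, 23, 8, 18, 19, 17, 4, 20, 14, 13],
    [0, 1, 2, 13, 22, 21, 23, 5, 7, 19, 20, 11, 9, 12, 15, 16, 6, 8, 4, 3, 18, 17, 10, 14]]

/-- Orbit representatives for `base3`. -/
def base3Roots : List ℕ := [8]

set_option maxRecDepth 20000 in
/-- Orbit certificate `base3`. -/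
def base3Tree : OT :=
  (.node (.node (.node (.node (.node .leaf 8 0 0 0 .leaf) 16 0 1048576 4 .leaf) 32 2 128 2 (.node (.node .leaf 64 2 65536 2 .leaf) 128 1 8 1 .leaf)) 256 1 65536 2 (.node (.node (.node .leaf 512 1 256 3 .leaf) 1024 0 262144 4 .leaf) 2048 1 128 2 (.node .leaf 4096 2 8192 2 .leaf))) 8192 2 8 1 (.node (.node (.node (.node .leaf 16384 1 4194304 4 .leaf) 32768 1 8192 2 .leaf) 65536 0 8 1 (.node (.node .leaf 131072 0 65536 2 .leaf) 262144 1 131072 3 .leaf)) 524288 1 262144 4 (.node (.node (.node .leaf 1048576 0 131072 3 .leaf) 2097152 0 64 3 .leaf) 4194304 0 256 3 (.node .leaf 8388608 2 64 3 .leaf))))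

/-- Generators for `base4`. -/
def base4Gens : List (List ℕ) :=
  [[0, 1, 2, 3, 8, 9, 20, 21, 10, 15, 17, 14, 6, 18, 13, 7, 23, 19, 22, 4, 16, 5, 11, 12],
    [0, 1, 2, 3, 9, 11, 12, 5, 23, 8, 15, 6, 7, 22, 16, 13, 18, 10, 19, 20, 14, 4, 17, 21],
    [0, 1, 2, 3, 7, 5, 8, 19, 9, 6, 11, 21, 18, 15, 23, 20, 16, 14, 22, 4, 13, 10, 12, 17]]

/-- Orbit representatives for `base4`. -/
def base4Roots : List ℕ := [16]

set_option maxRecDepth 20000 in
/-- Orbit certificate `base4`. -/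
def base4Tree : OT :=
  (.node (.node (.node (.node (.node .leaf 16 0 0 0 .leaf) 32 1 128 2 .leaf) 64 2 512 2 (.node (.node .leaf 128 2 16 1 .leaf) 256 0 16 1 .leaf)) 512 1 16 1 (.node (.node (.node .leaf 1024 0 256 2 .leaf) 2048 2 1024 3 .leaf) 4096 0 8388608 3 (.node .leaf 8192 1 32768 3 .leaf))) 16384 2 131072 4 (.node (.node (.node (.node .leaf 32768 0 512 2 .leaf) 65536 0 1048576 4 .leaf) 131072 0 1024 3 (.node .leaf 262144 2 4096 4 .leaf)) 524288 2 128 2 (.node (.node (.node .leaf 1048576 2 32768 3 .leaf) 2097152 0 128 2 .leaf) 4194304 1 8192 4 (.node .leaf 8388608 1 256 2 .leaf))))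

/-- Generators for `dodecadFive`. -/
def dodecadFiveGens : List (List ℕ) :=
  [[0, 1, 2, 3, 4, 7, 15, 19, 12, 17, 21, 10, 14, 23, 8, 18, 16, 20, 6, 5, 9, 11, 13, 22],
    [0, 1, 2, 3, 4, 19, 15, 7, 22, 11, 23, 14, 10, 21, 9, 18, 5, 13, 6, 16, 8, 17, 20, 12],
    [0, 1, 2, 3, 4, 10, 18, 20, 7, 5, 9, 12, 17, 23, 21, 6, 13, 11, 15, 14, 8, 19, 22, 16]]

/-- Orbit representatives for `dodecadFive`. -/
def dodecadFiveRoots : List ℕ := [108447]

set_option maxRecDepth 20000 in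
/-- Orbit certificate `dodecadFive`. -/
def dodecadFiveTree : OT :=
  (.node (.node (.node (.node (.node (.node .leaf 108447 0 0 0 .leaf) 210047 1 11472927 2 (.node .leaf 398271 0 1622847 4 .leaf)) 780319 2 11472927 2 (.node (.node .leaf 810047 0 2660767 3 .leaf) 1056607 1 13914655 4 .leaf)) 1215679 1 6361823 4 (.node (.node (.node .leaf 1390751 1 13271711 3 .leaf) 1622847 1 5326975 3 .leaf) 1724639 1 14944447 2 (.node (.node .leaf 2115071 2 1622847 4 .leaf) 2283039 1 10516575 4 .leaf))) 2449983 1 780319 3 (.node (.node (.node (.node .leaf 2660767 1 9446143 2 .leaf) 2755199 1 2449983 4 .leaf) 3557663 2 1724639 3 (.node (.node .leaf 3744095 2 11649183 4 .leaf) 3933855 2 2115071 5 .leaf)) 4255935 0 13111679 4 (.node (.node (.node .leaf 4350815 2 5870623 3 .leaf) 4670623 1 2660767 3 .leaf) 4730079 0 14944447 2 (.node (.node .leaf 5049119 1 1622847 4 .leaf) 5326975 0 11472927 2 .leaf)))) 5870623 2 14944447 2 (.node (.node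 (.node (.node (.node .leaf 6168639 0 13271711 3 .leaf) 6361823 0 9766207 3 .leaf) 6521151 2 13914655 4 (.node (.node .leaf 6567199 2 5326975 3 .leaf) 7383583 1 4350815 4 .leaf)) 8493631 2 8793631 4 (.node (.node (.node .leaf 8587743 0 2449983 4 .leaf) 8793631 2 210047 3 .leaf) 8996447 2 11052095 4 (.node (.node .leaf 9200031 2 3744095 5 .leaf) 9446143 2 108447 1 .leaf))) 9613599 0 4350815 4 (.node (.node (.node (.node .leaf 9766207 2 9446143 2 .leaf) 10516575 2 780319 3 .leaf) 11052095 1 210047 3 (.node (.node .leaf 11472927 0 108447 1 .leaf) 11649183 0 210047 3 .leaf)) 12635423 0 10516575 4 (.node (.node (.node .leaf 13111679 1 9766207 3 .leaf) 13271711 0 9446143 2 .leaf) 13914655 2 4730079 3 (.node (.node .leaf 14944447 1 108447 1 .leaf) 15860831 1 6567199 4 .leaf)))))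

end Cfsg.Agent.M24Geo
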