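import Cfsg.Agent.M24Geo.Orbit

/-! Orbits of a duad stabiliser on duads (data found by a search outside of Lean; every property is checked in the files using it). -/

set_option autoImplicit false

namespace Cfsg.Agent.M24Geo

/-- Generators for `duad`. -/
def duadGens : List (List ℕ) :=
  [[1, 0, 21, 12, 14, 22, 17, 8, 9, 2, 6, 13, 5, 4, 15, 19, 18, 3, 11, 20, 7, 16, 10, 23],
    [0, 1, 5, 17, 19, 12, 9, 6, 15, 14, 11, 4, 23, 3, 13, 20, 18, 22, 7, 2, 10, 16, 21, 8]]

/-- Orbit representatives for `duad`. -/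
def duadRoots : List ℕ := [3, 5, 12]

set_option maxRecDepth 20000 in
/-- Orbit certificate `duad`. -/
def duadTree : OT :=
  (.node (.node (.node (.node (.node (.node (.node (.node (.node .leaf 3 0 0 0 .leaf) 5 0 0 0 .leaf) 6 1 524290 7 (.node .leaf 9 1 8193 6 .leaf)) 10 1 8194 6 (.node (.node .leaf 12 0 0 0 .leaf) 17 1 2049 5 (.node .leaf 18 1 2050 5 .leaf))) 20 1 526336 7 (.node (.node (.node (.node .leaf 24 0 139264 8 .leaf) 33 1 5 1 .leaf) 34 0 4097 3 (.node .leaf 36 0 4608 6 .leaf)) 40 1 8196 6 (.node (.node .leaf 48 1 2052 7 .leaf) 65 1 129 5 (.node .leaf 66 0 1025 4 .leaf)))) 68 0 1536 7 (.node (.node (.node (.node (.node .leaf 72 0 132096 6 .leaf) 80 1 2176 7 .leaf) 96 0 5120 4 (.node .leaf 129 1 262145 4 .leaf)) 130 1 262146 4 (.node (.node .leaf 132 0 1049088 7 .leaf) 136 1 270336 8 (.node .leaf 144 0 1056768 8 .leaf))) 160 1 262148 9 (.node (.node (.node .leaf 192 0 1049600 9 .leaf) 257 1 8388609 4 (.node .leaf 258 0 129 5 .leaf)) 260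 1 8912896 7 (.node (.node .leaf 264 1 8396800 6 .leaf) 272 1 8390656 5 (.node .leaf 288 1 8388612 8 .leaf))))) 320 1 8388736 5 (.node (.node (.node (.node (.node (.node .leaf 384 1 8650752 4 .leaf) 513 0 258 6 .leaf) 514 1 66 5 (.node .leaf 516 0 768 6 .leaf)) 520 1 8256 6 (.node (.node .leaf 528 1 2112 7 .leaf) 544 1 68 8 (.node .leaf 576 0 1280 8 .leaf))) 640 1 262208 8 (.node (.node (.node (.node .leaf 768 0 384 5 .leaf) 1025 0 4194306 3 .leaf) 1026 0 4194305 5 (.node .leaf 1028 1 1572864 8 .leaf)) 1032 0 4325376 6 (.node (.node .leaf 1040 0 4202496 6 .leaf) 1056 0 4198400 3 (.node .leaf 1088 1 1048704 7 .leaf)))) 1152 0 5242880 9 (.node (.node (.node (.node (.node .leaf 1280 0 4194432 7 .leaf) 1536 1 1048640 6 .leaf) 2049 0 262146 4 (.node .leaf 2050 0 262145 4 .leaf)) 2052 0 262656 6 (.node (.node .leaf 2056 0 393216 6 .leaf) 2064 1 3072 5 (.node .leaf 2080 0 266240 4 .leaf))) 2112 0 263168 6 (.node (.node (.node .leaf 2176 1 263168 6 .leaf)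 2304 1 8389632 10 (.node .leaf 2560 0 262400 4 .leaf)) 3072 0 4456448 4 (.node (.node .leaf 4097 1 33 2 .leaf) 4098 1 34 4 (.node .leaf 4100 0 520 7 .leaf)))))) 4104 1 8224 6 (.node (.node (.node (.node (.node (.node (.node .leaf 4112 1 2080 5 .leaf) 4128 1 36 7 .leaf) 4160 0 1032 7 (.node .leaf 4224 0 1048584 8 .leaf)) 4352 1 8388640 9 (.node (.node .leaf 4608 1 96 5 .leaf) 5120 0 4194312 3 (.node .leaf 6144 1 1056 4 .leaf))) 8193 0 2050 5 (.node (.node (.node (.node .leaf 8194 0 2049 5 .leaf) 8196 0 2560 5 .leaf) 8200 1 24576 7 (.node .leaf 8208 1 18432 8 .leaf)) 8224 0 6144 5 (.node (.node .leaf 8256 0 3072 5 .leaf) 8320 0 1050624 10 (.node .leaf 8448 1 8404992 7 .leaf)))) 8704 1 16448 8 (.node (.node (.node (.node (.node .leaf 9216 0 4196352 7 .leaf) 10240 1 17408 8 .leaf) 12288 1 16416 7 (.node .leaf 16385 0 18 6 .leaf)) 16386 0 17 6 (.node (.node .leaf 16388 1 524800 8 .leaf) 16392 0 131088 7 (.node .leaf 16400 1 2560 5 .leaf))) 16416 0 4112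 6 (.node (.node (.node .leaf 16448 0 1040 7 .leaf) 16512 1 262656 6 (.node .leaf 16640 1 8389120 7 .leaf)) 16896 0 272 6 (.node (.node .leaf 17408 1 1049088 7 .leaf) 18432 1 1536 7 (.node .leaf 20480 1 544 9 .leaf))))) 24576 0 2064 6 (.node (.node (.node (.node (.node (.node .leaf 32769 1 257 5 .leaf) 32770 1 258 6 .leaf) 32772 1 524544 6 (.node .leaf 32776 0 147456 8 .leaf)) 32784 0 24576 7 (.node (.node .leaf 32800 1 260 8 .leaf) 32832 1 384 5 (.node .leaf 32896 1 262400 4 .leaf))) 33024 1 8388864 6 (.node (.node (.node .leaf 33280 1 320 6 .leaf) 33792 0 4210688 8 (.node .leaf 34816 1 1280 8 .leaf)) 36864 0 16392 8 (.node (.node .leaf 40960 1 16640 8 .leaf) 49152 1 768 6 (.node .leaf 65537 0 2097154 2 .leaf)))) 65538 1 2097154 2 (.node (.node (.node (.node (.node .leaf 65540 0 2097664 6 .leaf) 65544 0 2228224 4 .leaf) 65552 0 2105344 8 (.node .leaf 65568 0 2101248 2 .leaf)) 65600 1 2097280 5 (.node (.node .leaf 65664 1 2359296 6 .leaf) 65792 1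 10485760 4 (.node .leaf 66048 1 2097216 8 .leaf))) 66560 0 6291456 7 (.node (.node (.node .leaf 67584 0 2359296 6 .leaf) 69632 0 2097160 7 (.node .leaf 73728 1 2113536 9 .leaf)) 81920 1 2097664 6 (.node (.node .leaf 98304 1 2097408 9 .leaf) 131073 0 66 5 (.node .leaf 131074 0 65 6 .leaf))))))) 131076 1 524296 9 (.node (.node (.node (.node (.node (.node (.node (.node .leaf 131080 1 8200 8 .leaf) 131088 0 8256 6 .leaf) 131104 1 12 1 (.node .leaf 131136 0 1088 8 .leaf)) 131200 0 1048640 6 (.node (.node .leaf 131328 1 8388616 9 .leaf) 131584 0 320 6 (.node .leaf 132096 0 4194368 5 .leaf))) 133120 1 1032 7 (.node (.node (.node (.node .leaf 135168 1 40 7 .leaf) 139264 0 2112 7 .leaf) 147456 1 520 7 (.node .leaf 163840 1 264 7 .leaf)) 196608 1 2097160 7 (.node (.node .leaf 262145 1 65537 3 .leaf) 262146 0 65537 3 (.node .leaf 262148 1 589824 8 .leaf)))) 262152 0 196608 8 (.node (.node (.node (.node (.node .leaf 262160 1 67584 7 .leaf) 262176 1 65540 7 .leaf)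 262208 1 65664 7 (.node .leaf 262272 0 1114112 9 .leaf)) 262400 1 8454144 3 (.node (.node .leaf 262656 0 65792 5 .leaf) 263168 0 4259840 5 (.node .leaf 264192 1 66560 8 .leaf))) 266240 1 65568 3 (.node (.node (.node .leaf 270336 0 67584 7 .leaf) 278528 1 66048 9 (.node .leaf 294912 1 65792 5 .leaf)) 327680 0 2162688 8 (.node (.node .leaf 393216 1 65544 5 .leaf) 524289 1 17 6 (.node .leaf 524290 1 18 6 .leaf))))) 524292 1 524304 7 (.node (.node (.node (.node (.node (.node .leaf 524296 0 163840 8 .leaf) 524304 1 2064 6 .leaf) 524320 1 20 8 (.node .leaf 524352 0 33792 9 .leaf)) 524416 0 1081344 8 (.node (.node .leaf 524544 0 32896 5 .leaf) 524800 0 33024 7 (.node .leaf 525312 0 4227072 8 .leaf))) 526336 0 294912 6 (.node (.node (.node .leaf 528384 1 48 8 .leaf) 532480 1 16400 6 (.node .leaf 540672 0 32784 8 .leaf)) 557056 1 272 6 (.node (.node .leaf 589824 1 2097168 7 .leaf) 655360 0 32832 6 (.node .leaf 786432 1 65552 9 .leaf)))) 1048577 1 32769 6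 (.node (.node (.node (.node (.node .leaf 1048578 0 524289 7 .leaf) 1048580 1 557056 7 .leaf) 1048584 0 655360 7 (.node .leaf 1048592 0 532480 7 .leaf)) 1048608 1 32772 7 (.node (.node .leaf 1048640 1 32896 5 .leaf) 1048704 1 294912 6 (.node .leaf 1048832 1 8421376 8 .leaf))) 1049088 1 32832 6 (.node (.node (.node .leaf 1049600 0 4718592 8 .leaf) 1050624 1 33792 9 (.node .leaf 1052672 1 32800 9 .leaf)) 1056768 1 49152 7 (.node (.node .leaf 1064960 0 524304 7 .leaf) 1081344 1 33024 7 (.node .leaf 1114112 0 2621440 8 .leaf)))))) 1179648 1 32776 9 (.node (.node (.node (.node (.node (.node (.node .leaf 1310720 0 589824 8 .leaf) 1572864 0 557056 7 .leaf) 2097153 1 4194305 5 (.node .leaf 2097154 0 5 1 .leaf)) 2097156 0 516 7 (.node (.node .leaf 2097160 1 4202496 6 .leaf) 2097168 0 8196 6 (.node .leaf 2097184 0 4100 8 .leaf))) 2097216 1 4194432 7 (.node (.node (.node (.node .leaf 2097280 1 4456448 4 .leaf) 2097408 0 132 8 .leaf) 2097664 1 4194368 5 (.node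 .leaf 2098176 0 4194308 8 .leaf)) 2099200 0 262148 9 (.node (.node .leaf 2101248 0 12 1 .leaf) 2105344 0 2052 7 (.node .leaf 2113536 0 20 8 .leaf)))) 2129920 0 16388 9 (.node (.node (.node (.node (.node .leaf 2162688 1 6291456 7 .leaf) 2228224 1 4194312 3 .leaf) 2359296 1 4259840 5 (.node .leaf 2621440 0 32772 7 .leaf)) 3145728 0 524292 8 (.node (.node .leaf 4194305 0 34 4 .leaf) 4194306 0 33 2 (.node .leaf 4194308 1 655360 7 .leaf))) 4194312 0 131104 2 (.node (.node (.node .leaf 4194320 0 8224 6 .leaf) 4194336 0 4128 8 (.node .leaf 4194368 0 1056 4 .leaf)) 4194432 1 393216 6 (.node (.node .leaf 4194560 1 8519680 8 .leaf) 4194816 0 288 9 (.node .leaf 4195328 0 4194336 9 .leaf))))) 4196352 1 132096 6 (.node (.node (.node (.node (.node (.node .leaf 4198400 1 131104 2 .leaf) 4202496 0 2080 5 .leaf) 4210688 1 131584 7 (.node .leaf 4227072 0 16416 7 .leaf)) 4259840 1 2228224 4 (.node (.node .leaf 4325376 0 96 5 .leaf) 4456448 0 65568 3 (.node .leaf 4718592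 1 131088 7 .leaf))) 5242880 1 163840 8 (.node (.node (.node .leaf 6291456 1 4325376 6 .leaf) 8388609 1 4097 3 (.node .leaf 8388610 0 8388609 4 .leaf)) 8388612 0 8389120 7 (.node (.node .leaf 8388616 1 12288 8 .leaf) 8388624 1 6144 5 (.node .leaf 8388640 1 4100 8 .leaf)))) 8388672 1 4224 9 (.node (.node (.node (.node (.node .leaf 8388736 1 266240 4 .leaf) 8388864 0 8388736 5 .leaf) 8389120 0 8388864 6 (.node .leaf 8389632 0 12582912 9 .leaf)) 8390656 0 8650752 4 (.node (.node .leaf 8392704 1 4128 8 .leaf) 8396800 0 8390656 5 (.node .leaf 8404992 1 4608 6 .leaf))) 8421376 0 8404992 7 (.node (.node (.node .leaf 8454144 1 2101248 2 .leaf) 8519680 1 4104 7 (.node .leaf 8650752 0 8454144 3 .leaf)) 8912896 1 4112 6 (.node (.node .leaf 9437184 0 8912896 7 .leaf) 10485760 1 4198400 3 (.node .leaf 12582912 1 135168 8 .leaf))))))))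

end Cfsg.Agent.M24Geo
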