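import Cfsg.Agent.M24Geo.Orbit

/-! Orbits on duads of the stabiliser of two points and a duad (data found by a search outside of Lean; every property is checked in the files using it). -/

set_option autoImplicit false

namespace Cfsg.Agent.M24Geo

/-- Generators for `pairStab`. -/
def pairStabGens : List (List ℕ) :=
  [[0, 1, 3, 2, 22, 16, 8, 9, 12, 4, 23, 5, 6, 18, 10, 20, 14, 21, 7, 15, 19, 17, 13, 11], [0, 1, 3, 2, 5, 15, 17, 12, 9, 11, 22, 7, 16, 21, 6, 14, 8, 4, 23, 10, 13, 20, 19, 18]]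

/-- Orbit representatives for `pairStab`. -/
def pairStabRoots : List ℕ := [12, 20, 48, 80]

/-- The octads through the first four positions. -/
def octadsFirstFour : List ℕ := [8536111, 295007, 5243279, 537103, 2165775]

set_option maxRecDepth 20000 in
/-- Orbit certificate `pairStab`. -/
def pairStabTree : OT :=
  (.node (.node (.node (.node (.node (.node (.node (.node .leaf 12 0 0 0 .leaf) 20 0 0 0 (.node .leaf 24 1 131076 5 .leaf)) 36 0 2056 6 (.node (.node .leaf 40 1 20 1 .leaf) 48 0 0 0 (.node .leaf 68 1 16392 4 .leaf))) 72 1 16388 5 (.node (.node (.node .leaf 80 0 0 0 .leaf) 96 0 6144 7 (.node .leaf 132 0 262152 4 .leaf)) 136 1 2052 7 (.node (.node .leaf 144 0 262656 7 .leaf) 160 1 2064 8 .leaf))) 192 0 266240 5 (.node (.node (.node (.node .leaf 260 0 72 6 .leaf) 264 1 65540 3 (.node .leaf 272 1 196608 8 .leaf)) 288 0 2112 7 (.node (.node .leaf 320 1 81920 5 .leaf) 384 0 262208 4 .leaf)) 516 1 264 4 (.node (.node (.node .leaf 520 0 132 5 .leaf) 528 1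 131328 5 (.node .leaf 544 0 2176 7 .leaf)) 576 0 4224 8 (.node (.node .leaf 640 0 262272 7 .leaf) 768 0 192 6 .leaf)))) 1028 0 16392 4 (.node (.node (.node (.node (.node .leaf 1032 1 524292 3 .leaf) 1040 1 655360 8 (.node .leaf 1056 1 524304 7 .leaf)) 1088 1 540672 4 (.node (.node .leaf 1152 1 526336 7 .leaf) 1280 0 16448 4 (.node .leaf 1536 1 524544 3 .leaf))) 2052 1 520 6 (.node (.node (.node .leaf 2056 0 8388612 5 .leaf) 2064 1 131584 7 (.node .leaf 2080 1 528 6 .leaf)) 2112 0 8392704 6 (.node (.node .leaf 2176 1 2560 6 .leaf) 2304 1 66048 8 .leaf))) 2560 0 8388736 5 (.node (.node (.node (.node .leaf 3072 1 524800 3 .leaf) 4100 0 264 4 (.node .leaf 4104 1 132 5 .leaf)) 4112 0 768 7 (.node (.node .leaf 4128 1 144 8 .leaf) 4160 0 4352 7 .leaf)) 4224 1 2176 7 (.node (.node (.node .leaf 4352 0 320 6 .leaf) 4608 0 384 5 (.node .leaf 5120 1 524416 6 .leaf)) 6144 0 8388864 6 (.node (.node .leaf 8196 0 4194312 2 .leaf) 8200 1 1048580 5 .leaf))))) 8208 1 1179648 5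 (.node (.node (.node (.node (.node (.node .leaf 8224 0 4196352 5 .leaf) 8256 1 1064960 8 (.node .leaf 8320 1 1050624 6 .leaf)) 8448 1 1114112 3 (.node (.node .leaf 8704 1 1048832 4 .leaf) 9216 0 4210688 6 (.node .leaf 10240 0 12582912 5 .leaf))) 12288 0 4194560 2 (.node (.node (.node .leaf 16388 1 32776 4 .leaf) 16392 0 65540 3 (.node .leaf 16400 1 163840 7 .leaf)) 16416 1 32784 3 (.node (.node .leaf 16448 1 49152 3 .leaf) 16512 1 34816 6 .leaf))) 16640 1 98304 8 (.node (.node (.node (.node .leaf 16896 0 65664 7 .leaf) 17408 0 81920 5 (.node .leaf 18432 0 8454144 6 .leaf)) 20480 1 32896 7 (.node (.node .leaf 24576 0 4259840 2 .leaf) 32772 1 40 2 .leaf)) 32776 0 524292 3 (.node (.node (.node .leaf 32784 1 131104 2 .leaf) 32800 1 48 1 (.node .leaf 32832 1 16416 4 .leaf)) 32896 0 786432 6 (.node (.node .leaf 33024 0 524352 7 .leaf) 33280 0 524416 6 .leaf)))) 33792 0 540672 4 (.node (.node (.node (.node (.node .leaf 34816 0 8912896 5 .leaf) 36864 0 524544 3 (.node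 .leaf 40960 1 1048608 7 .leaf)) 49152 1 32800 2 (.node (.node .leaf 65540 0 40 2 .leaf) 65544 1 4100 5 (.node .leaf 65552 1 135168 7 .leaf))) 65568 0 2080 7 (.node (.node (.node .leaf 65600 1 20480 8 .leaf) 65664 0 262176 6 (.node .leaf 65792 0 96 8 .leaf)) 66048 1 4352 7 (.node (.node .leaf 66560 0 16416 4 .leaf) 67584 0 8388640 5 .leaf))) 69632 1 4224 8 (.node (.node (.node (.node .leaf 73728 1 1052672 8 .leaf) 81920 1 36864 4 (.node .leaf 98304 0 524320 7 .leaf)) 131076 0 2097160 4 (.node (.node .leaf 131080 1 68 5 .leaf) 131088 0 2097664 5 .leaf)) 131104 1 80 1 (.node (.node (.node .leaf 131136 1 16448 4 .leaf) 131200 0 2359296 7 (.node .leaf 131328 0 2097216 4 .leaf)) 131584 1 320 6 (.node (.node .leaf 132096 1 524352 7 .leaf) 133120 0 10485760 7 .leaf)))))) 135168 1 192 6 (.node (.node (.node (.node (.node (.node (.node .leaf 139264 1 1048640 5 .leaf) 147456 0 2162688 3 (.node .leaf 163840 0 2621440 6 .leaf)) 196608 0 2097184 7 (.node (.node .leaf 262148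 0 8200 6 .leaf) 262152 0 8196 3 (.node .leaf 262160 1 8519680 5 .leaf))) 262176 1 8388624 5 (.node (.node (.node .leaf 262208 0 12288 3 .leaf) 262272 0 270336 6 (.node .leaf 262400 1 8454144 6 .leaf)) 262656 1 8388864 6 (.node (.node .leaf 263168 0 24576 3 .leaf) 264192 1 8389120 8 .leaf))) 266240 0 8448 4 (.node (.node (.node (.node .leaf 270336 0 4202496 5 .leaf) 278528 1 8421376 7 (.node .leaf 294912 1 8388640 5 .leaf)) 327680 0 8224 6 (.node (.node .leaf 393216 0 2105344 7 .leaf) 524292 1 4194312 2 .leaf)) 524296 0 1048580 5 (.node (.node (.node .leaf 524304 1 4325376 6 .leaf) 524320 0 1050624 6 (.node .leaf 524352 1 4210688 6 .leaf)) 524416 1 4196352 5 (.node (.node .leaf 524544 1 4259840 2 .leaf) 524800 1 4194560 2 .leaf)))) 525312 0 1064960 8 (.node (.node (.node (.node (.node .leaf 526336 0 9437184 6 .leaf) 528384 0 1048832 4 (.node .leaf 532480 0 5242880 4 .leaf)) 540672 0 1114112 3 (.node (.node .leaf 557056 0 1572864 8 .leaf) 589824 0 1048608 7 (.node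 .leaf 655360 1 4194368 7 .leaf))) 786432 1 12582912 5 (.node (.node (.node .leaf 1048580 1 2097160 4 .leaf) 1048584 0 32772 3 (.node .leaf 1048592 0 33280 7 .leaf)) 1048608 0 34816 6 (.node (.node .leaf 1048640 0 36864 4 .leaf) 1048704 1 2099200 6 .leaf))) 1048832 1 2162688 3 (.node (.node (.node (.node .leaf 1049088 1 2097408 6 .leaf) 1049600 0 49152 3 (.node .leaf 1050624 1 2097664 5 .leaf)) 1052672 1 2097280 7 (.node (.node .leaf 1056768 1 3145728 8 .leaf) 1064960 1 2129920 7 .leaf)) 1081344 1 2097184 7 (.node (.node (.node .leaf 1114112 0 32800 2 .leaf) 1179648 1 2097216 4 (.node .leaf 1310720 1 10485760 7 .leaf)) 1572864 1 6291456 7 (.node (.node .leaf 2097156 1 8200 6 .leaf) 2097160 1 8196 3 .leaf))))) 2097168 1 139264 6 (.node (.node (.node (.node (.node (.node .leaf 2097184 1 8208 6 .leaf) 2097216 1 24576 3 (.node .leaf 2097280 1 10240 6 .leaf)) 2097408 0 131136 5 (.node (.node .leaf 2097664 1 8448 4 .leaf) 2098176 0 147456 4 (.node .leaf 2099200 0 8519680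 5 .leaf))) 2101248 0 131328 5 (.node (.node (.node .leaf 2105344 0 4325376 6 .leaf) 2113536 0 196608 8 (.node .leaf 2129920 1 8224 6 .leaf)) 2162688 0 131104 2 (.node (.node .leaf 2228224 1 8256 9 .leaf) 2359296 0 139264 6 .leaf))) 2621440 0 1179648 5 (.node (.node (.node (.node .leaf 3145728 0 163840 7 .leaf) 4194308 1 1032 4 (.node .leaf 4194312 0 20 1 .leaf)) 4194320 0 528 6 (.node (.node .leaf 4194336 0 2064 8 .leaf) 4194368 1 17408 6 .leaf)) 4194432 1 3072 4 (.node (.node (.node .leaf 4194560 0 80 1 .leaf) 4194816 1 1280 5 (.node .leaf 4195328 0 16400 8 .leaf)) 4196352 1 1536 4 (.node (.node .leaf 4198400 1 1152 8 .leaf) 4202496 1 1049600 4 .leaf)))) 4210688 1 33792 5 (.node (.node (.node (.node (.node .leaf 4227072 0 524304 7 .leaf) 4259840 0 48 1 (.node .leaf 4325376 1 1088 5 .leaf)) 4456448 0 8208 6 (.node (.node .leaf 4718592 0 1048592 8 .leaf) 5242880 0 32784 3 (.node .leaf 6291456 0 131088 6 .leaf))) 8388612 1 262152 4 (.node (.node (.node .leaf 8388616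 0 1028 5 .leaf) 8388624 0 1536 4 (.node .leaf 8388640 0 3072 4 .leaf)) 8388672 0 5120 7 (.node (.node .leaf 8388736 0 263168 4 .leaf) 8388864 0 1088 5 .leaf))) 8389120 1 262400 7 (.node (.node (.node (.node .leaf 8389632 1 786432 6 .leaf) 8390656 0 8389632 7 (.node .leaf 8392704 0 1280 5 .leaf)) 8396800 1 1310720 8 (.node (.node .leaf 8404992 0 66560 5 .leaf) 8421376 1 262176 6 .leaf)) 8454144 1 266240 5 (.node (.node (.node .leaf 8519680 1 262208 4 .leaf) 8650752 0 9216 7 (.node .leaf 8912896 0 1049600 4 .leaf)) 9437184 0 33792 5 (.node (.node .leaf 10485760 1 270336 6 .leaf) 12582912 1 263168 4 .leaf)))))))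

end Cfsg.Agent.M24Geo
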